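import Cfsg.Agent.ClassPairs.Basic
import Cfsg.Agent.Blocks.Sections
import Cfsg.Agent.BlocksCharsC.RegularSupport
import Cfsg.Agent.PrincipalBlock.Basic
import Cfsg.Agent.PLocal.Cores

/-!
# Block columns at elements inverted by no conjugate of an involution

If no conjugate of the involution `t` inverts the `2`-element `y`, then every product of two
conjugates of `t` avoids the `2`-section of `y`, and three combinations of a block column at `y`
vanish.
-/

set_option autoImplicit false
set_option linter.unusedSectionVars false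
set_option linter.style.haveILetI false

namespace CfsgLib.InvolColumn

open Cfsg CfsgLib.Characters
open scoped ComplexConjugate

universe u

variable {G : Type u} [Group G] [Fintype G]

/-- A combination of irreducible characters vanishing on the `p`-section of `y` stays so on each
block. -/
theorem sum_block_eq_zero {p : ℕ} [Fact p.Prime] {M : Ideal AlgInt} (hM : Cfsg.IsPModular p M)
    {B : Set (IrrCharacter G)} [DecidablePred (· ∈ B)] (hB : Cfsg.IsPBlock M B)
    (c : IrrCharacter G → ℂ) {y : G} (hy : ∃ k, orderOf y = p ^ k)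
    (h : ∀ u z : G, Cfsg.IsPPart p u z → IsConj y z → ∑ χ, c χ * (χ : G → ℂ) u = 0) :
    ∑ χ, (if χ ∈ B then c χ * (χ : G → ℂ) y else 0) = 0 := by
  classical
  have := Blocks.IsPModular.isPrime hM
  set ϑ : G → ℂ := ∑ χ, c χ • (χ : G → ℂ) with hϑ
  have hcl : Cfsg.IsClassFunction G ϑ := fun g x => by
    simp only [hϑ, Finset.sum_apply, Pi.smul_apply]
    exact Finset.sum_congr rfl fun χ _ => by rw [isClassFunction_of_isIrr χ.2 g x]
  have hpart : Cfsg.IsPPart p y y :=
    ⟨1, mul_one _, Commute.one_right _, hy, by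
      rw [orderOf_one]; exact (Fact.out : p.Prime).not_dvd_one⟩
  have key := Blocks.blockPart_eq_zero_of_section hM hcl (x := y)
    (fun u z hu hz => by simpa [hϑ, Finset.sum_apply] using h u z hu hz) hB hpart (IsConj.refl y)
  rw [Cfsg.blockPart, Blocks.finsum_irr_mem,
    show (Fintype.ofFinite G) = ‹Fintype G› from Subsingleton.elim _ _] at key
  refine Eq.trans ?_ key
  refine Finset.sum_congr rfl fun χ _ => ?_
  rw [hϑ, classInner_irr_coeff]

theorem char_involution_real (χ : IrrCharacter G) {t : G} (ht : t⁻¹ = t) :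
    conj ((χ : G → ℂ) t) = (χ : G → ℂ) t := by
  rw [← character_inv (isCharacter_of_isIrr χ.2), ht]

/-- The three column relations. -/
theorem three_relations {M : Ideal AlgInt} (hM : Cfsg.IsPModular 2 M)
    {B : Set (IrrCharacter G)} [DecidablePred (· ∈ B)] (hB : Cfsg.IsPBlock M B)
    {t y : G} (ht : orderOf t = 2) (hy : ∃ k, orderOf y = 2 ^ k)
    (hinv : ∀ g : G, (g * t * g⁻¹) * y * (g * t * g⁻¹)⁻¹ ≠ y⁻¹) :
    ∑ χ : IrrCharacter G,
        (if χ ∈ B then (χ : G → ℂ) t ^ 2 / (χ : G → ℂ) 1 * (χ : G → ℂ) y else 0) = 0 ∧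
      ∑ χ : IrrCharacter G, (if χ ∈ B then (χ : G → ℂ) 1 * (χ : G → ℂ) y else 0) = 0 ∧
      ∑ χ : IrrCharacter G, (if χ ∈ B then (χ : G → ℂ) t * (χ : G → ℂ) y else 0) = 0 := by
  classical
  haveI : Fact (Nat.Prime 2) := ⟨Nat.prime_two⟩
  have htt : t * t = 1 := by rw [← sq, ← ht, pow_orderOf_eq_one]
  have hti : t⁻¹ = t := inv_eq_of_mul_eq_one_right htt
  have hy1 : y ≠ 1 := by
    intro h; exact hinv 1 (by simp [h])
  have hyt : ∀ c : G, c * y * c⁻¹ ≠ t := by
    intro c hc
    refine hinv c⁻¹ ?_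
    have hy' : y = c⁻¹ * t * c := by rw [← hc]; group
    have hyy : y⁻¹ = y := by rw [hy']; simp [mul_assoc, hti]
    rw [inv_inv, ← hy', mul_inv_cancel_right, hyy]
  refine ⟨sum_block_eq_zero hM hB _ hy fun u z hu hz => ?_,
    sum_block_eq_zero hM hB _ hy fun u z hu hz => ?_,
    sum_block_eq_zero hM hB _ hy fun u z hu hz => ?_⟩
  · obtain ⟨c, hc⟩ := isConj_iff.1 hz
    have hno : ∀ a b : G, a * t * a⁻¹ * (b * t * b⁻¹) ≠ u := by
      intro a b hab
      set r := a * t * a⁻¹ with hr
      set q := b * t * b⁻¹ with hq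
      have hrr : r * r = 1 := by rw [hr]; simp [mul_assoc, ← mul_assoc t t, htt]
      have hqq : q * q = 1 := by rw [hq]; simp [mul_assoc, ← mul_assoc t t, htt]
      clear_value r q
      have hru : r * u * r⁻¹ = u⁻¹ := by
        rw [← hab, mul_inv_rev, inv_eq_of_mul_eq_one_right hrr, inv_eq_of_mul_eq_one_right hqq]
        calc r * (r * q) * r = r * r * (q * r) := by group
          _ = q * r := by rw [hrr, one_mul]
      have h1 : Cfsg.IsPPart 2 u⁻¹ (r * z * r⁻¹) := hru ▸ Blocks.isPPart_conj hu r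
      have h2 : Cfsg.IsPPart 2 u⁻¹ z⁻¹ := by
        obtain ⟨s, hs, hcomm, hzo, hso⟩ := hu
        exact ⟨s⁻¹, by rw [← hs, ← mul_inv_rev, hcomm.eq], hcomm.inv_inv, by simpa using hzo,
          by simpa using hso⟩
      have h3 := Blocks.isPPart_unique Nat.prime_two h1 h2
      refine hinv (c⁻¹ * a) ?_
      have e : c⁻¹ * a * t * (c⁻¹ * a)⁻¹ = c⁻¹ * r * c := by rw [hr]; group
      rw [e]
      calc c⁻¹ * r * c * y * (c⁻¹ * r * c)⁻¹ = c⁻¹ * (r * (c * y * c⁻¹) * r⁻¹) * c := by group
        _ = c⁻¹ * z⁻¹ * c := by rw [hc, h3]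
        _ = y⁻¹ := by rw [← hc]; group
    have h := ClassPairs.card_pairs t t {u}
    rw [Finset.sum_eq_zero fun a _ => Finset.sum_eq_zero fun b _ => if_neg
      (fun hm => hno a b (Finset.mem_singleton.1 hm))] at h
    have h' := congrArg conj ((mul_eq_zero.1 h.symm).resolve_left natCard_ne_zero)
    rw [map_sum, map_zero] at h'
    refine Eq.trans ?_ h'
    refine Finset.sum_congr rfl fun χ _ => ?_
    rw [Finset.sum_singleton, map_mul, map_div₀, map_mul, Complex.conj_conj,
      char_involution_real χ hti, ← character_inv (isCharacter_of_isIrr χ.2) 1, inv_one]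
    ring
  · have hu1 : u ≠ 1 := by
      rintro rfl
      obtain ⟨c, hc⟩ := isConj_iff.1 hz
      have h1 : Cfsg.IsPPart 2 (1 : G) 1 :=
        ⟨1, one_mul 1, Commute.one_right _, ⟨0, by simp⟩, by simp⟩
      have hz1 := Blocks.isPPart_unique Nat.prime_two hu h1
      rw [hz1] at hc
      exact hy1 (conj_eq_one_iff.1 hc)
    have h := sum_degree_mul u
    rw [if_neg hu1] at h
    exact h
  · obtain ⟨c, hc⟩ := isConj_iff.1 hz
    have hut : ¬ IsConj u t := by
      intro hcon
      obtain ⟨d, hd⟩ := isConj_iff.1 hcon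
      have h1 : Cfsg.IsPPart 2 t t :=
        ⟨1, mul_one t, Commute.one_right _, ⟨1, by simpa using ht⟩, by simp⟩
      have h2 := Blocks.isPPart_conj hu d
      rw [hd] at h2
      have h3 := Blocks.isPPart_unique Nat.prime_two h2 h1
      exact hyt (d * c) (by rw [← h3, ← hc]; group)
    refine Eq.trans ?_ (sum_irr_mul_conj_of_not_isConj hut)
    exact Finset.sum_congr rfl fun χ _ => by rw [char_involution_real χ hti, mul_comm]

end CfsgLib.InvolColumn
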